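import Mathlib
import Cfsg.Prelude.Def_Sporadic_a
import Cfsg.Agent.M11U.H8_Steiner

/-!
# S0421, PART C12: a sharply `5`-transitive group of degree `12` preserves an `S(5,6,12)`

One level above helper8's `H8_Steiner` (whose fixed point lemmas `h8_fix`, `h8_card_fix_modEq`
are reused).  For five distinct points `a b c d e` the element swapping `a, b` and fixing
`c, d, e` is an involution with exactly one further fixed point `f`; the point `f` is the same for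
all ten transpositions of `{a,b,c,d,e}` and the blocks `{a,b,c,d,e,f}` form a Steiner system
`S(5,6,12)` preserved by `G`.
-/

set_option autoImplicit false
set_option linter.style.haveILetI false

namespace Cfsg.Agent.M12U

open Cfsg.Agent.M11U

universe u v

section Core

variable {G : Type u} [Group G] {Ω : Type v} [MulAction G Ω]

/-- an element fixing five distinct points is trivial -/
def h4_Sharp5 (G : Type u) [Group G] (Ω : Type v) [MulAction G Ω] : Prop :=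
  ∀ g : G, ∀ a b c d e : Ω, [a, b, c, d, e].Nodup → g • a = a → g • b = b → g • c = c →
    g • d = d → g • e = e → g = 1

/-- five distinct points can be moved to any five distinct points -/
def h4_Trans5 (G : Type u) [Group G] (Ω : Type v) [MulAction G Ω] : Prop :=
  ∀ a b c d e a' b' c' d' e' : Ω, [a, b, c, d, e].Nodup → [a', b', c', d', e'].Nodup →
    ∃ g : G, g • a = a' ∧ g • b = b' ∧ g • c = c' ∧ g • d = d' ∧ g • e = e'

theorem h4_nodup5 (a b c d e : Ω) : [a, b, c, d, e].Nodup ↔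
    (a ≠ b ∧ a ≠ c ∧ a ≠ d ∧ a ≠ e) ∧ (b ≠ c ∧ b ≠ d ∧ b ≠ e) ∧ (c ≠ d ∧ c ≠ e) ∧ d ≠ e := by
  simp only [List.nodup_cons, List.mem_cons, List.not_mem_nil, or_false, not_or,
    List.nodup_nil, and_true, not_false_eq_true]

theorem h4_agree5 (hs : h4_Sharp5 G Ω) (g h : G) (a b c d e : Ω) (hnd : [a, b, c, d, e].Nodup)
    (ha : g • a = h • a) (hb : g • b = h • b) (hc : g • c = h • c) (hd : g • d = h • d)
    (he : g • e = h • e) : g = h := by
  have h1 := hs (h⁻¹ * g) a b c d e hnd (by rw [mul_smul, ha, inv_smul_smul])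
    (by rw [mul_smul, hb, inv_smul_smul]) (by rw [mul_smul, hc, inv_smul_smul])
    (by rw [mul_smul, hd, inv_smul_smul]) (by rw [mul_smul, he, inv_smul_smul])
  exact (inv_mul_eq_one.mp h1).symm

variable [Fintype Ω] [DecidableEq Ω]

/-- the element swapping `a, b` and fixing `c, d, e` has exactly one further fixed point -/
theorem h4_swap_extra (hs : h4_Sharp5 G Ω) (hΩ : Fintype.card Ω = 12) (g : G) (a b c d e : Ω)
    (hnd : [a, b, c, d, e].Nodup) (hab : g • a = b) (hba : g • b = a) (hc : g • c = c)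
    (hd : g • d = d) (he : g • e = e) :
    ∃ f : Ω, f ∉ [a, b, c, d, e] ∧ g • f = f ∧
      ∀ f', g • f' = f' → f' = c ∨ f' = d ∨ f' = e ∨ f' = f := by
  obtain ⟨⟨nab, nac, nad, nae⟩, ⟨nbc, nbd, nbe⟩, ⟨ncd, nce⟩, nde⟩ := (h4_nodup5 a b c d e).mp hnd
  have hgg : g ^ 2 ^ 1 = 1 := by
    rw [pow_one, pow_two]
    apply h4_agree5 hs (g * g) 1 a b c d e hnd
    · rw [mul_smul, hab, hba, one_smul]
    · rw [mul_smul, hba, hab, one_smul]
    · rw [mul_smul, hc, hc, one_smul]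
    · rw [mul_smul, hd, hd, one_smul]
    · rw [mul_smul, he, he, one_smul]
  haveI : Fact (Nat.Prime 2) := ⟨Nat.prime_two⟩
  have hmod := h8_card_fix_modEq (Ω := Ω) g 2 1 hgg
  rw [hΩ] at hmod
  have hex : ∃ f : Ω, g • f = f ∧ f ≠ c ∧ f ≠ d ∧ f ≠ e := by
    by_contra hno
    push Not at hno
    have hfix : h8_fix g = ({c, d, e} : Finset Ω) := by
      ext ω
      rw [h8_mem_fix]
      simp only [Finset.mem_insert, Finset.mem_singleton]
      constructor
      · intro hω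
        by_cases hωc : ω = c
        · exact Or.inl hωc
        · by_cases hωd : ω = d
          · exact Or.inr (Or.inl hωd)
          · exact Or.inr (Or.inr (hno ω hω hωc hωd))
      · rintro (rfl | rfl | rfl)
        · exact hc
        · exact hd
        · exact he
    have hc3 : ({c, d, e} : Finset Ω).card = 3 := by
      rw [Finset.card_insert_of_notMem, Finset.card_pair nde]
      simp only [Finset.mem_insert, Finset.mem_singleton, not_or]
      exact ⟨ncd, nce⟩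
    rw [hfix, hc3] at hmod
    exact absurd hmod (by decide)
  obtain ⟨f, hf, hfc, hfd, hfe⟩ := hex
  have hfa : f ≠ a := by
    rintro rfl
    exact nab (hf.symm.trans hab)
  have hfb : f ≠ b := by
    rintro rfl
    exact nab (hba.symm.trans hf)
  refine ⟨f, ?_, hf, ?_⟩
  · simp only [List.mem_cons, List.not_mem_nil, or_false, not_or]
    exact ⟨hfa, hfb, hfc, hfd, hfe⟩
  · intro f' hf'
    by_contra hcon
    push Not at hcon
    obtain ⟨h1, h2, h3, h4⟩ := hcon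
    have hone : g = 1 := hs g c d e f f' ((h4_nodup5 c d e f f').mpr
      ⟨⟨ncd, nce, Ne.symm hfc, Ne.symm h1⟩, ⟨nde, Ne.symm hfd, Ne.symm h2⟩,
        ⟨Ne.symm hfe, Ne.symm h3⟩, Ne.symm h4⟩) hc hd he hf hf'
    rw [hone, one_smul] at hab
    exact nab hab

/-- the element fixing `p, p'` and rotating `q → r → s → q` has exactly one further fixed
point -/
theorem h4_rot_extra (hs : h4_Sharp5 G Ω) (hΩ : Fintype.card Ω = 12) (y : G) (p p' q r s : Ω)
    (hnd : [p, p', q, r, s].Nodup) (hp : y • p = p) (hp' : y • p' = p') (hq : y • q = r)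
    (hr : y • r = s) (hs' : y • s = q) :
    ∃ f : Ω, f ∉ [p, p', q, r, s] ∧ y • f = f ∧ ∀ f', y • f' = f' → f' = p ∨ f' = p' ∨ f' = f := by
  obtain ⟨⟨npp, npq, npr, nps⟩, ⟨np'q, np'r, np's⟩, ⟨nqr, nqs⟩, nrs⟩ :=
    (h4_nodup5 p p' q r s).mp hnd
  have hyyy : y ^ 3 ^ 1 = 1 := by
    rw [pow_one, pow_succ, pow_two]
    apply h4_agree5 hs (y * y * y) 1 p p' q r s hnd
    · rw [mul_smul, mul_smul, hp, hp, hp, one_smul]
    · rw [mul_smul, mul_smul, hp', hp', hp', one_smul]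
    · rw [mul_smul, mul_smul, hq, hr, hs', one_smul]
    · rw [mul_smul, mul_smul, hr, hs', hq, one_smul]
    · rw [mul_smul, mul_smul, hs', hq, hr, one_smul]
  haveI : Fact (Nat.Prime 3) := ⟨Nat.prime_three⟩
  have hmod := h8_card_fix_modEq (Ω := Ω) y 3 1 hyyy
  rw [hΩ] at hmod
  have hex : ∃ f : Ω, y • f = f ∧ f ≠ p ∧ f ≠ p' := by
    by_contra hno
    push Not at hno
    have hfix : h8_fix y = ({p, p'} : Finset Ω) := by
      ext ω
      rw [h8_mem_fix]
      simp only [Finset.mem_insert, Finset.mem_singleton]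
      constructor
      · intro hω
        by_cases hωp : ω = p
        · exact Or.inl hωp
        · exact Or.inr (hno ω hω hωp)
      · rintro (rfl | rfl)
        · exact hp
        · exact hp'
    rw [hfix, Finset.card_pair npp] at hmod
    exact absurd hmod (by decide)
  obtain ⟨f, hf, hfp, hfp'⟩ := hex
  have hfq : f ≠ q := by
    rintro rfl
    exact nqr (hf.symm.trans hq)
  have hfr : f ≠ r := by
    rintro rfl
    exact nrs (hf.symm.trans hr)
  have hfs : f ≠ s := by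
    rintro rfl
    exact nqs (hs'.symm.trans hf)
  refine ⟨f, ?_, hf, ?_⟩
  · simp only [List.mem_cons, List.not_mem_nil, or_false, not_or]
    exact ⟨hfp, hfp', hfq, hfr, hfs⟩
  · intro f' hf'
    by_contra hcon
    push Not at hcon
    obtain ⟨h1, h2, h3⟩ := hcon
    -- four fixed points, so at least six
    have hsub : ({p, p', f, f'} : Finset Ω) ⊆ h8_fix y := by
      intro ω hω
      simp only [Finset.mem_insert, Finset.mem_singleton] at hω
      rw [h8_mem_fix]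
      rcases hω with rfl | rfl | rfl | rfl
      · exact hp
      · exact hp'
      · exact hf
      · exact hf'
    have hc4 : ({p, p', f, f'} : Finset Ω).card = 4 := by
      rw [Finset.card_insert_of_notMem, Finset.card_insert_of_notMem,
        Finset.card_pair (Ne.symm h3)]
      · simp only [Finset.mem_insert, Finset.mem_singleton, not_or]
        exact ⟨Ne.symm hfp', Ne.symm h2⟩
      · simp only [Finset.mem_insert, Finset.mem_singleton, not_or]
        exact ⟨npp, Ne.symm hfp, Ne.symm h1⟩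
    have hle := Finset.card_le_card hsub
    rw [hc4] at hle
    have hlt : ({p, p', f, f'} : Finset Ω).card < (h8_fix (Ω := Ω) y).card := by
      rw [hc4]
      have : (h8_fix (Ω := Ω) y).card % 3 = 12 % 3 := hmod
      omega
    obtain ⟨f'', hf''1, hf''2⟩ := Finset.exists_mem_notMem_of_card_lt_card hlt
    rw [h8_mem_fix] at hf''1
    simp only [Finset.mem_insert, Finset.mem_singleton, not_or] at hf''2
    obtain ⟨k1, k2, k3, k4⟩ := hf''2
    have hone : y = 1 := hs y p p' f f' f'' ((h4_nodup5 p p' f f' f'').mpr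
      ⟨⟨npp, Ne.symm hfp, Ne.symm h1, Ne.symm k1⟩, ⟨Ne.symm hfp', Ne.symm h2, Ne.symm k2⟩,
        ⟨Ne.symm h3, Ne.symm k3⟩, Ne.symm k4⟩) hp hp' hf hf' hf''1
    rw [hone, one_smul] at hq
    exact nqr hq

/-- a transposition of `{q, r, s}` fixing `p, p'` inverts the rotation and hence fixes its extra
fixed point -/
theorem h4_rot_swap_one (hs : h4_Sharp5 G Ω) (ht : h4_Trans5 G Ω) (y : G) (p p' q r s f : Ω)
    (hnd : [p, p', q, r, s].Nodup) (hp : y • p = p) (hp' : y • p' = p') (hq : y • q = r)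
    (hr : y • r = s) (hs' : y • s = q) (hfp : f ≠ p) (hfp' : f ≠ p') (hf : y • f = f)
    (hfu : ∀ f', y • f' = f' → f' = p ∨ f' = p' ∨ f' = f) :
    ∃ g : G, g • q = r ∧ g • r = q ∧ g • p = p ∧ g • p' = p' ∧ g • s = s ∧ g • f = f := by
  obtain ⟨⟨npp, npq, npr, nps⟩, ⟨np'q, np'r, np's⟩, ⟨nqr, nqs⟩, nrs⟩ :=
    (h4_nodup5 p p' q r s).mp hnd
  obtain ⟨g, g1, g2, g3, g4, g5⟩ := ht q r p p' s r q p p' s
    ((h4_nodup5 q r p p' s).mpr ⟨⟨nqr, Ne.symm npq, Ne.symm np'q, nqs⟩,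
      ⟨Ne.symm npr, Ne.symm np'r, nrs⟩, ⟨npp, nps⟩, np's⟩)
    ((h4_nodup5 r q p p' s).mpr ⟨⟨Ne.symm nqr, Ne.symm npr, Ne.symm np'r, nrs⟩,
      ⟨Ne.symm npq, Ne.symm np'q, nqs⟩, ⟨npp, nps⟩, np's⟩)
  refine ⟨g, g1, g2, g3, g4, g5, ?_⟩
  have yiq : y⁻¹ • q = s := by rw [inv_smul_eq_iff, hs']
  have yir : y⁻¹ • r = q := by rw [inv_smul_eq_iff, hq]
  have yis : y⁻¹ • s = r := by rw [inv_smul_eq_iff, hr]
  have yip : y⁻¹ • p = p := by rw [inv_smul_eq_iff, hp]
  have yip' : y⁻¹ • p' = p' := by rw [inv_smul_eq_iff, hp']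
  have yif : y⁻¹ • f = f := by rw [inv_smul_eq_iff, hf]
  have hcomm : y * g = g * y⁻¹ := by
    apply h4_agree5 hs (y * g) (g * y⁻¹) p p' q r s hnd
    · rw [mul_smul, mul_smul, g3, hp, yip, g3]
    · rw [mul_smul, mul_smul, g4, hp', yip', g4]
    · rw [mul_smul, mul_smul, g1, hr, yiq, g5]
    · rw [mul_smul, mul_smul, g2, hq, yir, g1]
    · rw [mul_smul, mul_smul, g5, hs', yis, g2]
  have hfix : y • (g • f) = g • f := by
    rw [← mul_smul, hcomm, mul_smul, yif]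
  rcases hfu _ hfix with h | h | h
  · exfalso
    apply hfp
    have : g • f = g • p := by rw [h, g3]
    exact MulAction.injective g this
  · exfalso
    apply hfp'
    have : g • f = g • p' := by rw [h, g4]
    exact MulAction.injective g this
  · exact h

/-- the transpositions `(q r)`, `(r s)` fixing `p, p'` share the extra fixed point of the
rotation -/
theorem h4_rot_swap (hs : h4_Sharp5 G Ω) (ht : h4_Trans5 G Ω) (hΩ : Fintype.card Ω = 12)
    (p p' q r s : Ω) (hnd : [p, p', q, r, s].Nodup) :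
    ∃ f : Ω, f ∉ [p, p', q, r, s] ∧
      (∃ g : G, g • q = r ∧ g • r = q ∧ g • p = p ∧ g • p' = p' ∧ g • s = s ∧ g • f = f) ∧
      (∃ g : G, g • r = s ∧ g • s = r ∧ g • p = p ∧ g • p' = p' ∧ g • q = q ∧ g • f = f) := by
  obtain ⟨⟨npp, npq, npr, nps⟩, ⟨np'q, np'r, np's⟩, ⟨nqr, nqs⟩, nrs⟩ :=
    (h4_nodup5 p p' q r s).mp hnd
  have hnd2 : [p, p', r, s, q].Nodup := (h4_nodup5 p p' r s q).mpr
    ⟨⟨npp, npr, nps, npq⟩, ⟨np'r, np's, np'q⟩, ⟨nrs, Ne.symm nqr⟩, Ne.symm nqs⟩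
  obtain ⟨y, y1, y1', y2, y3, y4⟩ := ht p p' q r s p p' r s q hnd hnd2
  obtain ⟨f, hfn, hf, hfu⟩ := h4_rot_extra hs hΩ y p p' q r s hnd y1 y1' y2 y3 y4
  have hfn' := hfn
  simp only [List.mem_cons, List.not_mem_nil, or_false, not_or] at hfn'
  refine ⟨f, hfn, ?_, ?_⟩
  · exact h4_rot_swap_one hs ht y p p' q r s f hnd y1 y1' y2 y3 y4 hfn'.1 hfn'.2.1 hf hfu
  · exact h4_rot_swap_one hs ht y p p' r s q f hnd2 y1 y1' y3 y4 y2 hfn'.1 hfn'.2.1 hf hfu

/-- `g` swaps `v i`, `v j` and fixes the other four points -/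
def h4_Sw (G : Type u) [Group G] {Ω : Type v} [MulAction G Ω] (v : Fin 6 → Ω) (i j : Fin 6) :
    Prop :=
  ∃ g : G, g • v i = v j ∧ g • v j = v i ∧ ∀ k, k ≠ i → k ≠ j → g • v k = v k

omit [Fintype Ω] [DecidableEq Ω] in
theorem h4_sw_symm (v : Fin 6 → Ω) (i j : Fin 6) (h : h4_Sw G v i j) : h4_Sw G v j i := by
  obtain ⟨g, g1, g2, g3⟩ := h
  exact ⟨g, g2, g1, fun k hk1 hk2 => g3 k hk2 hk1⟩

theorem h4_fin6_rest : ∀ i j k : Fin 6, i ≠ j → i ≠ k → j ≠ k →
    ∃ l l' m : Fin 6, l ≠ l' ∧ l ≠ m ∧ l' ≠ m ∧ l ≠ i ∧ l ≠ j ∧ l ≠ k ∧ l' ≠ i ∧ l' ≠ j ∧ l' ≠ k ∧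
      m ≠ i ∧ m ≠ j ∧ m ≠ k ∧ ∀ x : Fin 6, x = i ∨ x = j ∨ x = k ∨ x = l ∨ x = l' ∨ x = m := by
  intro i j k hij hik hjk
  have hc3 : ({i, j, k} : Finset (Fin 6)).card = 3 := by
    rw [Finset.card_insert_of_notMem, Finset.card_pair hjk]
    simp only [Finset.mem_insert, Finset.mem_singleton, not_or]
    exact ⟨hij, hik⟩
  have hc : (Finset.univ \ ({i, j, k} : Finset (Fin 6))).card = 3 := by
    rw [Finset.card_sdiff_of_subset (Finset.subset_univ _), hc3]
    simp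
  obtain ⟨l, l', m, hll, hlm, hl'm, heq⟩ := Finset.card_eq_three.mp hc
  have hmem : ∀ x : Fin 6, x ∈ Finset.univ \ ({i, j, k} : Finset (Fin 6)) ↔ x = l ∨ x = l' ∨ x = m := by
    intro x; rw [heq]; simp
  have hl := (hmem l).mpr (Or.inl rfl)
  have hl' := (hmem l').mpr (Or.inr (Or.inl rfl))
  have hm := (hmem m).mpr (Or.inr (Or.inr rfl))
  simp only [Finset.mem_sdiff, Finset.mem_univ, true_and, Finset.mem_insert, Finset.mem_singleton,
    not_or] at hl hl' hm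
  refine ⟨l, l', m, hll, hlm, hl'm, hl.1, hl.2.1, hl.2.2, hl'.1, hl'.2.1, hl'.2.2, hm.1, hm.2.1,
    hm.2.2, ?_⟩
  intro x
  by_cases hx : x ∈ ({i, j, k} : Finset (Fin 6))
  · simp only [Finset.mem_insert, Finset.mem_singleton] at hx
    rcases hx with h | h | h
    · exact Or.inl h
    · exact Or.inr (Or.inl h)
    · exact Or.inr (Or.inr (Or.inl h))
  · have := (hmem x).mp (by simp only [Finset.mem_sdiff, Finset.mem_univ, true_and]; exact hx)
    rcases this with h | h | h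
    · exact Or.inr (Or.inr (Or.inr (Or.inl h)))
    · exact Or.inr (Or.inr (Or.inr (Or.inr (Or.inl h))))
    · exact Or.inr (Or.inr (Or.inr (Or.inr (Or.inr h))))

theorem h4_sw_step (hs : h4_Sharp5 G Ω) (ht : h4_Trans5 G Ω) (hΩ : Fintype.card Ω = 12)
    (v : Fin 6 → Ω) (hv : Function.Injective v) (i j k : Fin 6) (hij : i ≠ j) (hik : i ≠ k)
    (hjk : j ≠ k) (h : h4_Sw G v i j) : h4_Sw G v j k := by
  obtain ⟨l, l', m, hll, hlm, hl'm, hli, hlj, hlk, hl'i, hl'j, hl'k, hmi, hmj, hmk, hall⟩ :=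
    h4_fin6_rest i j k hij hik hjk
  obtain ⟨g, g1, g2, g3⟩ := h
  have hnd : [v l, v l', v i, v j, v k].Nodup := (h4_nodup5 _ _ _ _ _).mpr
    ⟨⟨hv.ne hll, hv.ne hli, hv.ne hlj, hv.ne hlk⟩, ⟨hv.ne hl'i, hv.ne hl'j, hv.ne hl'k⟩,
      ⟨hv.ne hij, hv.ne hik⟩, hv.ne hjk⟩
  obtain ⟨f, hfn, ⟨g₁, a1, a2, a3, a3', a4, a5⟩, ⟨g₂, b1, b2, b3, b3', b4, b5⟩⟩ :=
    h4_rot_swap hs ht hΩ (v l) (v l') (v i) (v j) (v k) hnd
  simp only [List.mem_cons, List.not_mem_nil, or_false, not_or] at hfn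
  obtain ⟨hfl, hfl', hfi, hfj, hfk⟩ := hfn
  have hg : g₁ = g := by
    apply h4_agree5 hs g₁ g (v l) (v l') (v i) (v j) (v k) hnd
    · rw [a3, g3 l hli hlj]
    · rw [a3', g3 l' hl'i hl'j]
    · rw [a1, g1]
    · rw [a2, g2]
    · rw [a4, g3 k (Ne.symm hik) (Ne.symm hjk)]
  rw [hg] at a5
  have hfm : f = v m := by
    by_contra hne
    have hone : g = 1 := hs g (v k) (v l) (v l') (v m) f ((h4_nodup5 _ _ _ _ _).mpr
      ⟨⟨hv.ne (Ne.symm hlk), hv.ne (Ne.symm hl'k), hv.ne (Ne.symm hmk), Ne.symm hfk⟩,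
        ⟨hv.ne hll, hv.ne hlm, Ne.symm hfl⟩, ⟨hv.ne hl'm, Ne.symm hfl'⟩, Ne.symm hne⟩)
      (g3 k (Ne.symm hik) (Ne.symm hjk)) (g3 l hli hlj) (g3 l' hl'i hl'j) (g3 m hmi hmj) a5
    rw [hone, one_smul] at g1
    exact hv.ne hij g1
  refine ⟨g₂, b1, b2, ?_⟩
  intro x hxj hxk
  rcases hall x with rfl | rfl | rfl | rfl | rfl | rfl
  · exact b4
  · exact absurd rfl hxj
  · exact absurd rfl hxk
  · exact b3
  · exact b3'
  · rw [← hfm]
    exact b5

theorem h4_sw_all (hs : h4_Sharp5 G Ω) (ht : h4_Trans5 G Ω) (hΩ : Fintype.card Ω = 12)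
    (v : Fin 6 → Ω) (hv : Function.Injective v) (i₀ j₀ : Fin 6) (h0 : i₀ ≠ j₀)
    (h : h4_Sw G v i₀ j₀) : ∀ i j : Fin 6, i ≠ j → h4_Sw G v i j := by
  -- replace the second endpoint
  have hsnd : ∀ i j k : Fin 6, i ≠ j → i ≠ k → j ≠ k → h4_Sw G v i j → h4_Sw G v i k := by
    intro i j k hij hik hjk hh
    exact h4_sw_step hs ht hΩ v hv j i k (Ne.symm hij) hjk hik (h4_sw_symm v i j hh)
  -- replace the first endpoint
  have hfst : ∀ i j k : Fin 6, i ≠ j → i ≠ k → j ≠ k → h4_Sw G v i j → h4_Sw G v k j := by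
    intro i j k hij hik hjk hh
    exact h4_sw_symm v j k (h4_sw_step hs ht hΩ v hv i j k hij hik hjk hh)
  intro i j hij
  by_cases hi : i = i₀
  · subst hi
    by_cases hj : j = j₀
    · subst hj
      exact h
    · exact hsnd i j₀ j h0 hij (Ne.symm hj) h
  · by_cases hi' : i = j₀
    · subst hi'
      by_cases hj : j = i₀
      · subst hj
        exact h4_sw_symm v j i h
      · exact hsnd i i₀ j (Ne.symm h0) hij (Ne.symm hj) (h4_sw_symm v i₀ i h)
    · have h1 : h4_Sw G v i j₀ := hfst i₀ j₀ i h0 (Ne.symm hi) (Ne.symm hi') h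
      by_cases hj : j = j₀
      · subst hj
        exact h1
      · exact hsnd i j₀ j hi' hij (Ne.symm hj) h1

/-- the blocks: six points on which `G` induces all transpositions -/
def h4_Blk (G : Type u) [Group G] {Ω : Type v} [MulAction G Ω] (s : Finset Ω) : Prop :=
  s.card = 6 ∧ ∀ p ∈ s, ∀ q ∈ s, p ≠ q →
    ∃ g : G, g • p = q ∧ g • q = p ∧ ∀ r ∈ s, r ≠ p → r ≠ q → g • r = r

theorem h4_blk_exists (hs : h4_Sharp5 G Ω) (ht : h4_Trans5 G Ω) (hΩ : Fintype.card Ω = 12)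
    (a b c d e : Ω) (hnd : [a, b, c, d, e].Nodup) :
    ∃ s : Finset Ω, h4_Blk G s ∧ a ∈ s ∧ b ∈ s ∧ c ∈ s ∧ d ∈ s ∧ e ∈ s := by
  obtain ⟨⟨nab, nac, nad, nae⟩, ⟨nbc, nbd, nbe⟩, ⟨ncd, nce⟩, nde⟩ := (h4_nodup5 a b c d e).mp hnd
  obtain ⟨g, g1, g2, g3, g4, g5⟩ := ht a b c d e b a c d e hnd ((h4_nodup5 b a c d e).mpr
    ⟨⟨Ne.symm nab, nbc, nbd, nbe⟩, ⟨nac, nad, nae⟩, ⟨ncd, nce⟩, nde⟩)
  obtain ⟨f, hfn, hf, -⟩ := h4_swap_extra hs hΩ g a b c d e hnd g1 g2 g3 g4 g5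
  simp only [List.mem_cons, List.not_mem_nil, or_false, not_or] at hfn
  obtain ⟨hfa, hfb, hfc, hfd, hfe⟩ := hfn
  set v : Fin 6 → Ω := ![a, b, c, d, e, f] with hvdef
  have hv : Function.Injective v := by
    rw [← List.nodup_ofFn]
    simp only [hvdef, List.ofFn_succ, List.ofFn_zero, Matrix.cons_val_zero, Matrix.cons_val_succ,
      List.nodup_cons, List.mem_cons, List.not_mem_nil, or_false, not_or, List.nodup_nil,
      and_true, not_false_eq_true]
    exact ⟨⟨nab, nac, nad, nae, Ne.symm hfa⟩, ⟨nbc, nbd, nbe, Ne.symm hfb⟩,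
      ⟨ncd, nce, Ne.symm hfc⟩, ⟨nde, Ne.symm hfd⟩, Ne.symm hfe⟩
  have h01 : h4_Sw G v 0 1 := by
    refine ⟨g, g1, g2, ?_⟩
    intro k hk0 hk1
    fin_cases k
    · exact absurd rfl hk0
    · exact absurd rfl hk1
    · exact g3
    · exact g4
    · exact g5
    · exact hf
  have hall := h4_sw_all hs ht hΩ v hv 0 1 (by decide) h01
  refine ⟨Finset.univ.image v, ⟨?_, ?_⟩, ?_, ?_, ?_, ?_, ?_⟩
  · rw [Finset.card_image_of_injective _ hv]
    simp
  · intro p hp q hq hpq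
    obtain ⟨i, -, rfl⟩ := Finset.mem_image.mp hp
    obtain ⟨j, -, rfl⟩ := Finset.mem_image.mp hq
    have hij : i ≠ j := fun h => hpq (by rw [h])
    obtain ⟨t, t1, t2, t3⟩ := hall i j hij
    refine ⟨t, t1, t2, ?_⟩
    intro r hr hri hrj
    obtain ⟨k, -, rfl⟩ := Finset.mem_image.mp hr
    exact t3 k (fun h => hri (by rw [h])) (fun h => hrj (by rw [h]))
  · exact Finset.mem_image.mpr ⟨0, Finset.mem_univ _, rfl⟩
  · exact Finset.mem_image.mpr ⟨1, Finset.mem_univ _, rfl⟩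
  · exact Finset.mem_image.mpr ⟨2, Finset.mem_univ _, rfl⟩
  · exact Finset.mem_image.mpr ⟨3, Finset.mem_univ _, rfl⟩
  · exact Finset.mem_image.mpr ⟨4, Finset.mem_univ _, rfl⟩

theorem h4_blk_unique (hs : h4_Sharp5 G Ω) (s s' : Finset Ω) (h : h4_Blk G s) (h' : h4_Blk G s')
    (X : Finset Ω) (hX : X.card = 5) (hXs : X ⊆ s) (hXs' : X ⊆ s') : s = s' := by
  obtain ⟨p, Y, hpY, rfl, hY⟩ := Finset.card_eq_succ.mp hX
  obtain ⟨p', Y', hp'Y', rfl, hY'⟩ := Finset.card_eq_succ.mp hY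
  obtain ⟨q, r, t, hqr, hqt, hrt, rfl⟩ := Finset.card_eq_three.mp hY'
  simp only [Finset.mem_insert, Finset.mem_singleton, not_or] at hpY hp'Y'
  obtain ⟨hpp', hpq, hpr, hpt⟩ := hpY
  obtain ⟨hp'q, hp'r, hp't⟩ := hp'Y'
  have hnd : [p, p', q, r, t].Nodup := (h4_nodup5 _ _ _ _ _).mpr
    ⟨⟨hpp', hpq, hpr, hpt⟩, ⟨hp'q, hp'r, hp't⟩, ⟨hqr, hqt⟩, hrt⟩
  have hmem : ∀ u : Finset Ω, insert p (insert p' ({q, r, t} : Finset Ω)) ⊆ u →
      p ∈ u ∧ p' ∈ u ∧ q ∈ u ∧ r ∈ u ∧ t ∈ u := by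
    intro u hu
    refine ⟨hu ?_, hu ?_, hu ?_, hu ?_, hu ?_⟩ <;> simp
  -- the sixth point of a block
  have hsixth : ∀ u : Finset Ω, u.card = 6 → insert p (insert p' ({q, r, t} : Finset Ω)) ⊆ u →
      ∃ z, z ∈ u ∧ z ∉ insert p (insert p' ({q, r, t} : Finset Ω)) ∧
        u = insert z (insert p (insert p' {q, r, t})) := by
    intro u hu6 hsub
    have hlt : (insert p (insert p' ({q, r, t} : Finset Ω))).card < u.card := by
      rw [hX, hu6]; norm_num
    obtain ⟨z, hzu, hzn⟩ := Finset.exists_mem_notMem_of_card_lt_card hlt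
    refine ⟨z, hzu, hzn, ?_⟩
    symm
    apply Finset.eq_of_subset_of_card_le
    · intro w hw
      rcases Finset.mem_insert.mp hw with rfl | hw
      · exact hzu
      · exact hsub hw
    · rw [Finset.card_insert_of_notMem hzn, hX, hu6]
  obtain ⟨z, hzs, hzn, hsz⟩ := hsixth s h.1 hXs
  obtain ⟨z', hzs', hzn', hsz'⟩ := hsixth s' h'.1 hXs'
  obtain ⟨ps, p's, qs, rs, ts⟩ := hmem s hXs
  obtain ⟨ps', p's', qs', rs', ts'⟩ := hmem s' hXs'
  simp only [Finset.mem_insert, Finset.mem_singleton, not_or] at hzn hzn'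
  obtain ⟨g, g1, g2, g3⟩ := h.2 p ps q qs hpq
  obtain ⟨g', g1', g2', g3'⟩ := h'.2 p ps' q qs' hpq
  have hgg : g = g' := by
    apply h4_agree5 hs g g' p p' q r t hnd
    · rw [g1, g1']
    · rw [g3 p' p's (Ne.symm hpp') hp'q, g3' p' p's' (Ne.symm hpp') hp'q]
    · rw [g2, g2']
    · rw [g3 r rs (Ne.symm hpr) (Ne.symm hqr), g3' r rs' (Ne.symm hpr) (Ne.symm hqr)]
    · rw [g3 t ts (Ne.symm hpt) (Ne.symm hqt), g3' t ts' (Ne.symm hpt) (Ne.symm hqt)]
  have hzz : z = z' := by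
    by_contra hne
    have hone : g = 1 := hs g p' r t z z' ((h4_nodup5 _ _ _ _ _).mpr
      ⟨⟨hp'r, hp't, Ne.symm hzn.2.1, Ne.symm hzn'.2.1⟩,
        ⟨hrt, Ne.symm hzn.2.2.2.1, Ne.symm hzn'.2.2.2.1⟩,
        ⟨Ne.symm hzn.2.2.2.2, Ne.symm hzn'.2.2.2.2⟩, hne⟩)
      (g3 p' p's (Ne.symm hpp') hp'q)
      (g3 r rs (Ne.symm hpr) (Ne.symm hqr)) (g3 t ts (Ne.symm hpt) (Ne.symm hqt))
      (g3 z hzs hzn.1 hzn.2.2.1) (by rw [hgg]; exact g3' z' hzs' hzn'.1 hzn'.2.2.1)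
    rw [hone, one_smul] at g1
    exact hpq g1
  rw [hsz, hsz', hzz]

omit [Fintype Ω] in
theorem h4_blk_smul (h : G) (s : Finset Ω) (hs : h4_Blk G s) :
    h4_Blk G (s.image (fun ω => h • ω)) := by
  refine ⟨?_, ?_⟩
  · rw [Finset.card_image_of_injective _ (MulAction.injective h)]
    exact hs.1
  · intro p' hp' q' hq' hpq'
    obtain ⟨p, hp, rfl⟩ := Finset.mem_image.mp hp'
    obtain ⟨q, hq, rfl⟩ := Finset.mem_image.mp hq'
    have hpq : p ≠ q := fun e => hpq' (by rw [e])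
    obtain ⟨g, g1, g2, g3⟩ := hs.2 p hp q hq hpq
    refine ⟨h * g * h⁻¹, ?_, ?_, ?_⟩
    · rw [mul_smul, mul_smul, inv_smul_smul, g1]
    · rw [mul_smul, mul_smul, inv_smul_smul, g2]
    · intro r' hr' hrp hrq
      obtain ⟨r, hr, rfl⟩ := Finset.mem_image.mp hr'
      rw [mul_smul, mul_smul, inv_smul_smul,
        g3 r hr (fun e => hrp (by rw [e])) (fun e => hrq (by rw [e]))]

/-- the Steiner system from sharpness and `5`-transitivity -/
theorem h4_steiner (hs : h4_Sharp5 G Ω) (ht : h4_Trans5 G Ω) (hΩ : Fintype.card Ω = 12) :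
    Cfsg.IsSteinerSystem 5 6 {s : Finset Ω | h4_Blk G s} ∧
      ∀ g : G, ∀ b ∈ {s : Finset Ω | h4_Blk G s}, b.image (fun ω => g • ω) ∈
        {s : Finset Ω | h4_Blk G s} := by
  refine ⟨⟨fun b hb => hb.1, ?_⟩, fun g b hb => h4_blk_smul g b hb⟩
  intro X hX
  obtain ⟨p, Y, hpY, hXe, hY⟩ := Finset.card_eq_succ.mp hX
  obtain ⟨p', Y', hp'Y', hYe, hY'⟩ := Finset.card_eq_succ.mp hY
  obtain ⟨q, r, t, hqr, hqt, hrt, rfl⟩ := Finset.card_eq_three.mp hY'
  subst hYe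
  have hpY' := hpY
  have hp'Y'' := hp'Y'
  simp only [Finset.mem_insert, Finset.mem_singleton, not_or] at hpY' hp'Y''
  obtain ⟨hpp', hpq, hpr, hpt⟩ := hpY'
  obtain ⟨hp'q, hp'r, hp't⟩ := hp'Y''
  have hnd : [p, p', q, r, t].Nodup := (h4_nodup5 _ _ _ _ _).mpr
    ⟨⟨hpp', hpq, hpr, hpt⟩, ⟨hp'q, hp'r, hp't⟩, ⟨hqr, hqt⟩, hrt⟩
  obtain ⟨s, hsB, ps, p's, qs, rs, ts⟩ := h4_blk_exists hs ht hΩ p p' q r t hnd
  have hXs : X ⊆ s := by
    rw [← hXe]
    intro w hw
    simp only [Finset.mem_insert, Finset.mem_singleton] at hw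
    rcases hw with rfl | rfl | rfl | rfl | rfl
    · exact ps
    · exact p's
    · exact qs
    · exact rs
    · exact ts
  refine ⟨s, ⟨hsB, hXs⟩, ?_⟩
  rintro s' ⟨hs'B, hXs'⟩
  exact h4_blk_unique hs s' s hs'B hsB X hX hXs' hXs

end Core

/-! ### from the instance hypotheses to `h4_Sharp5`, `h4_Trans5` -/

section Inst

variable {G : Type u} [Group G] [Finite G] {Ω : Type v} [Fintype Ω] [DecidableEq Ω]
  [MulAction G Ω]

/-- the embedding `Fin 5 ↪ Ω` of five distinct points -/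
def h4_emb5 (a b c d e : Ω) (hnd : [a, b, c, d, e].Nodup) : Fin 5 ↪ Ω :=
  ⟨![a, b, c, d, e], by
    rw [← List.nodup_ofFn]
    simpa [List.ofFn_succ] using hnd⟩

omit [Finite G] [Fintype Ω] [DecidableEq Ω] in
theorem h4_trans5_of_inst [MulAction.IsMultiplyPretransitive G Ω 5] : h4_Trans5 G Ω := by
  intro a b c d e a' b' c' d' e' hnd hnd'
  obtain ⟨g, hg⟩ := MulAction.exists_smul_eq G (h4_emb5 a b c d e hnd)
    (h4_emb5 a' b' c' d' e' hnd')
  refine ⟨g, ?_, ?_, ?_, ?_, ?_⟩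
  · simpa [h4_emb5] using congrArg (fun e : Fin 5 ↪ Ω => e 0) hg
  · simpa [h4_emb5] using congrArg (fun e : Fin 5 ↪ Ω => e 1) hg
  · simpa [h4_emb5] using congrArg (fun e : Fin 5 ↪ Ω => e 2) hg
  · simpa [h4_emb5] using congrArg (fun e : Fin 5 ↪ Ω => e 3) hg
  · simpa [h4_emb5] using congrArg (fun e : Fin 5 ↪ Ω => e 4) hg

omit [DecidableEq Ω] in
theorem h4_sharp5_of_inst (hcard : Nat.card G = 95040) (hΩ : Fintype.card Ω = 12)
    [MulAction.IsMultiplyPretransitive G Ω 5] : h4_Sharp5 G Ω := by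
  intro g a b c d e hnd ha hb hc hd he
  set x : Fin 5 ↪ Ω := h4_emb5 a b c d e hnd with hx
  -- the stabilizer of `x` is trivial by counting
  have horb : MulAction.orbit G x = Set.univ := MulAction.orbit_eq_univ G x
  have hidx : (MulAction.stabilizer G x).index = 95040 := by
    rw [MulAction.index_stabilizer, horb, Set.ncard_univ, Nat.card_eq_fintype_card,
      Fintype.card_embedding_eq, hΩ, Fintype.card_fin]
    rfl
  have hmul := Subgroup.index_mul_card (MulAction.stabilizer G x)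
  rw [hidx, hcard] at hmul
  have hone : Nat.card (MulAction.stabilizer G x) = 1 := by omega
  have hbot : MulAction.stabilizer G x = ⊥ := Subgroup.card_eq_one.mp hone
  have hmem : g ∈ MulAction.stabilizer G x := by
    rw [MulAction.mem_stabilizer_iff]
    ext i
    fin_cases i
    · simpa [hx, h4_emb5] using ha
    · simpa [hx, h4_emb5] using hb
    · simpa [hx, h4_emb5] using hc
    · simpa [hx, h4_emb5] using hd
    · simpa [hx, h4_emb5] using he
  rw [hbot] at hmem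
  exact Subgroup.mem_bot.mp hmem

/-- **PART C12.** -/
theorem steiner_of_sharp5 {G : Type u} [Group G] [Finite G] (hcard : Nat.card G = 95040)
    {Ω : Type v} [Fintype Ω] [DecidableEq Ω] [MulAction G Ω] [FaithfulSMul G Ω]
    (hΩ : Fintype.card Ω = 12) [MulAction.IsMultiplyPretransitive G Ω 5] :
    ∃ B : Set (Finset Ω), Cfsg.IsSteinerSystem 5 6 B ∧
      ∀ g : G, ∀ b ∈ B, b.image (fun ω => g • ω) ∈ B :=
  ⟨{s : Finset Ω | h4_Blk G s},
    h4_steiner (h4_sharp5_of_inst hcard hΩ) h4_trans5_of_inst hΩ⟩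

end Inst

end Cfsg.Agent.M12U
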