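import Mathlib
import Cfsg.Prelude.Def_Sporadic_a
import Cfsg.Prelude.Def_Sporadic
import Cfsg.Agent.S0425
import Cfsg.Agent.M12U.H4_Steiner

/-!
# S0421, PART C12 + D12: `iso_aut_of_sharp5`

A group of order `95040` acting faithfully and `5`-transitively on `12` points is the full
automorphism group of a Steiner system `S(5,6,12)` on these points (whose automorphism group has
order `95040` by the landed S0425).
-/

set_option autoImplicit false

namespace Cfsg.Agent.M12U

open scoped Pointwise

universe u v

/-- generic PART D: a finite group acting faithfully and preserving a set system whose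
automorphism group has the same order is that automorphism group -/
theorem h4_iso_aut_of_invariant {G : Type u} [Group G] [Finite G]
    {Ω : Type v} [Fintype Ω] [DecidableEq Ω] [MulAction G Ω] [FaithfulSMul G Ω]
    (B : Set (Finset Ω)) (hcardA : Nat.card (Cfsg.setSystemAut B) = Nat.card G)
    (hinv : ∀ g : G, ∀ b ∈ B, b.image (fun ω => g • ω) ∈ B) :
    Nonempty (G ≃* Cfsg.setSystemAut B) := by
  classical
  set φ : G →* Equiv.Perm Ω := MulAction.toPermHom G Ω with hφ
  have hφinj : Function.Injective φ := MulAction.toPerm_injective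
  have hsmul : ∀ (g : G) (b : Finset Ω), (φ g) • b = b.image (fun ω => g • ω) := by
    intro g b
    ext ω
    simp only [Finset.mem_smul_finset, Finset.mem_image]
    constructor
    · rintro ⟨y, hy, rfl⟩
      exact ⟨y, hy, rfl⟩
    · rintro ⟨y, hy, rfl⟩
      exact ⟨y, hy, rfl⟩
  have hmem : ∀ g : G, φ g ∈ Cfsg.setSystemAut B := by
    intro g
    rw [MulAction.mem_stabilizer_iff]
    apply Set.Subset.antisymm
    · rintro _ ⟨b, hb, rfl⟩
      show (φ g) • b ∈ B
      rw [hsmul]
      exact hinv g b hb
    · intro b hb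
      refine ⟨(φ g⁻¹) • b, ?_, ?_⟩
      · rw [hsmul]
        exact hinv g⁻¹ b hb
      · show (φ g) • ((φ g⁻¹) • b) = b
        rw [smul_smul, ← map_mul, mul_inv_cancel, map_one, one_smul]
  let ψ : G →* Cfsg.setSystemAut B := φ.codRestrict (Cfsg.setSystemAut B) hmem
  have hψinj : Function.Injective ψ := by
    intro a b hab
    apply hφinj
    have := congrArg Subtype.val hab
    exact this
  haveI : Finite (Cfsg.setSystemAut B) := inferInstance
  have hψbij : Function.Bijective ψ := by
    rw [Nat.bijective_iff_injective_and_card]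
    exact ⟨hψinj, hcardA.symm⟩
  exact ⟨MulEquiv.ofBijective ψ hψbij⟩

/-- **PART C12 + D12.** -/
theorem iso_aut_of_sharp5 {G : Type u} [Group G] [Finite G] (hcard : Nat.card G = 95040)
    {Ω : Type v} [Fintype Ω] [DecidableEq Ω] [MulAction G Ω] [FaithfulSMul G Ω]
    (hΩ : Fintype.card Ω = 12) [MulAction.IsMultiplyPretransitive G Ω 5] :
    ∃ B : Set (Finset Ω), Cfsg.IsSteinerSystem 5 6 B ∧ Nonempty (G ≃* Cfsg.setSystemAut B) := by
  obtain ⟨B, hB, hinv⟩ := steiner_of_sharp5 hcard hΩ
  have hcardA : Nat.card (Cfsg.setSystemAut B) = 95040 := (Cfsg.Agent.S0425.result hΩ hB).1.2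
  exact ⟨B, hB, h4_iso_aut_of_invariant B (by rw [hcardA, hcard]) hinv⟩

end Cfsg.Agent.M12U
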