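import Mathlib
import Cfsg.Prelude.Def_Sporadic
import Cfsg.Agent.M11U.H4_PartB
import Cfsg.Agent.M11U.H5_Facts
import Cfsg.Agent.Helper1.M11g

/-!
# S0421 (M12), PART B12: a simple group of order `95040` acts faithfully and `5`-transitively on
the `12` cosets of any subgroup of index `12`.

The point stabilizer `H` (order `7920`) contains an `11`-cycle on the other `11` points, so it is
transitive and faithful there and elements of order `11` are self-centralizing in `H`; hence the
prime `11` is isolated in the prime graph of `H` and `H` is simple (`Helper1.M7920`).  Then the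
M11 cluster (`facts`) and `h4_four_trans` make `H` `4`-transitive on the `11` points.
-/

set_option autoImplicit false

namespace Cfsg.Agent.M12U

open Cfsg.Agent.M11U
open Classical

universe u v

section PartB

variable {G : Type u} [Group G] [Finite G] {Ω : Type v} [MulAction G Ω] [Finite Ω]

/-- an element of order `11` acting faithfully on `11` points: its powers act transitively -/
theorem h4_eleven_cycle [FaithfulSMul G Ω] (hΩ : Nat.card Ω = 11) (y : G) (hy : orderOf y = 11) :
    ∃ δ₀ : Ω, ∀ δ : Ω, ∃ l ∈ Subgroup.zpowers y, l • δ₀ = δ := by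
  have hy1 : y ≠ 1 := by
    rintro rfl
    rw [orderOf_one] at hy; omega
  have hmove : ∃ δ₀ : Ω, y • δ₀ ≠ δ₀ := by
    by_contra hcon
    push_neg at hcon
    apply hy1
    apply FaithfulSMul.eq_of_smul_eq_smul (α := Ω)
    intro ω
    rw [one_smul, hcon ω]
  obtain ⟨δ₀, hδ₀⟩ := hmove
  refine ⟨δ₀, ?_⟩
  have hL : Nat.card (Subgroup.zpowers y) = 11 := by rw [Nat.card_zpowers, hy]
  have hos := h4_os (Subgroup.zpowers y) δ₀
  rw [hL] at hos
  have hstab : Nat.card ↥(Subgroup.zpowers y ⊓ MulAction.stabilizer G δ₀) ≠ 11 := by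
    intro h11
    have : Subgroup.zpowers y ⊓ MulAction.stabilizer G δ₀ = Subgroup.zpowers y :=
      Subgroup.eq_of_le_of_card_ge inf_le_left (by rw [h11, hL])
    have hmem : y ∈ Subgroup.zpowers y ⊓ MulAction.stabilizer G δ₀ := by
      rw [this]; exact Subgroup.mem_zpowers y
    exact hδ₀ (MulAction.mem_stabilizer_iff.mp (Subgroup.mem_inf.mp hmem).2)
  have hprime : Nat.Prime 11 := by norm_num
  have hdvd : Nat.card ↥(Subgroup.zpowers y ⊓ MulAction.stabilizer G δ₀) ∣ 11 :=
    Dvd.intro_left _ hos.symm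
  have hone : Nat.card ↥(Subgroup.zpowers y ⊓ MulAction.stabilizer G δ₀) = 1 := by
    rcases (Nat.dvd_prime hprime).mp hdvd with h | h
    · exact h
    · exact absurd h hstab
  rw [hone, mul_one] at hos
  have huniv : {ω' : Ω | ∃ l ∈ Subgroup.zpowers y, l • δ₀ = ω'} = Set.univ := by
    rw [Set.eq_univ_iff_ncard, ← hos, hΩ]
  intro δ
  have : δ ∈ {ω' : Ω | ∃ l ∈ Subgroup.zpowers y, l • δ₀ = ω'} := by rw [huniv]; trivial
  exact this

/-- an element of order `11` acting faithfully on `11` points is self-centralizing -/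
theorem h4_eleven_centralizer [FaithfulSMul G Ω] (hΩ : Nat.card Ω = 11) (y : G)
    (hy : orderOf y = 11) (c : G) (hc : c * y = y * c) : c ∈ Subgroup.zpowers y := by
  obtain ⟨δ₀, hδ₀⟩ := h4_eleven_cycle hΩ y hy
  obtain ⟨l, hl, hlc⟩ := hδ₀ (c • δ₀)
  have hcomm : ∀ m ∈ Subgroup.zpowers y, c * m = m * c := by
    intro m hm
    obtain ⟨k, rfl⟩ := Subgroup.mem_zpowers_iff.mp hm
    exact ((show Commute c y from hc).zpow_right k)
  have hlcomm : ∀ m ∈ Subgroup.zpowers y, l * m = m * l := by
    intro m hm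
    obtain ⟨k, rfl⟩ := Subgroup.mem_zpowers_iff.mp hm
    obtain ⟨j, rfl⟩ := Subgroup.mem_zpowers_iff.mp hl
    exact (((Commute.refl y).zpow_left j).zpow_right k)
  have heq : c = l := by
    apply FaithfulSMul.eq_of_smul_eq_smul (α := Ω)
    intro δ
    obtain ⟨m, hm, rfl⟩ := hδ₀ δ
    rw [← mul_smul, ← mul_smul, hcomm m hm, hlcomm m hm, mul_smul, mul_smul, hlc]
  rw [heq]; exact hl

/-- a group of order `7920` acting faithfully on `11` points is simple -/
theorem h4_simple_of_eleven [FaithfulSMul G Ω] (hΩ : Nat.card Ω = 11) (hcard : Nat.card G = 7920) :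
    IsSimpleGroup G := by
  apply Cfsg.Agent.Helper1.M7920.simple_of_disconnected hcard
  refine ⟨{11}, ⟨11, rfl, by norm_num, by rw [hcard]; norm_num⟩,
    ⟨2, by simp, by norm_num, by rw [hcard]; norm_num⟩, ?_⟩
  intro a ha b hb _ hbp _ _
  rw [Set.mem_singleton_iff] at ha hb
  subst ha
  rintro ⟨g, hg⟩
  have hb0 : b ≠ 0 := hbp.ne_zero
  have hz : orderOf (g ^ b) = 11 := by
    rw [orderOf_pow_of_dvd hb0 (by rw [hg]; exact dvd_mul_left b 11), hg,
      Nat.mul_div_cancel _ hbp.pos]
  have hmem := h4_eleven_centralizer hΩ (g ^ b) hz g (by rw [← pow_succ, ← pow_succ'])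
  have hdvd : orderOf g ∣ 11 := by
    have h1 := Subgroup.orderOf_dvd_natCard _ hmem
    rwa [Nat.card_zpowers, hz] at h1
  rw [hg] at hdvd
  have : 11 * b ≤ 11 := Nat.le_of_dvd (by norm_num) hdvd
  have hb2 := hbp.two_le
  omega

/-- **PART B12**, abstract form: a simple group of order `95040` acting transitively and
faithfully on `12` points is `5`-transitive. -/
theorem h4_five_trans (hG : Cfsg.IsM12 G) (hΩ : Nat.card Ω = 12) [MulAction.IsPretransitive G Ω]
    [FaithfulSMul G Ω] : MulAction.IsMultiplyPretransitive G Ω 5 := by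
  haveI : Nonempty Ω := by
    rw [← Finite.card_pos_iff, hΩ]; norm_num
  obtain ⟨α⟩ := ‹Nonempty Ω›
  -- the point stabilizer
  have hHcard : Nat.card (MulAction.stabilizer G α) = 7920 := by
    have h1 := Subgroup.card_mul_index (MulAction.stabilizer G α)
    rw [MulAction.index_stabilizer_of_transitive, hΩ, hG.2] at h1
    omega
  have hΔcard : Nat.card (SubMulAction.ofStabilizer G α) = 11 := by
    rw [SubMulAction.nat_card_ofStabilizer_eq, hΩ]
  -- faithful on the other points
  haveI hfaith : FaithfulSMul (MulAction.stabilizer G α) (SubMulAction.ofStabilizer G α) := by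
    constructor
    intro h₁ h₂ h
    apply Subtype.ext
    apply FaithfulSMul.eq_of_smul_eq_smul (α := Ω)
    intro ω
    by_cases hω : ω = α
    · rw [hω, MulAction.mem_stabilizer_iff.mp h₁.2, MulAction.mem_stabilizer_iff.mp h₂.2]
    · have h3 := h ⟨ω, (SubMulAction.mem_ofStabilizer_iff G α).mpr hω⟩
      have h4 := congrArg Subtype.val h3
      simp only [SubMulAction.val_smul] at h4
      exact h4
  -- simple
  haveI hsimple : IsSimpleGroup (MulAction.stabilizer G α) :=
    h4_simple_of_eleven (Ω := SubMulAction.ofStabilizer G α) hΔcard hHcard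
  have hM11 : Cfsg.IsM11 (MulAction.stabilizer G α) := ⟨hsimple, hHcard⟩
  obtain ⟨F, -⟩ := facts hM11
  -- transitive on the other points
  haveI : Fact (Nat.Prime 11) := ⟨by norm_num⟩
  obtain ⟨y, hy⟩ := exists_prime_orderOf_dvd_card' (G := MulAction.stabilizer G α) 11
    (by rw [hHcard]; norm_num)
  obtain ⟨δ₀, hδ₀⟩ := h4_eleven_cycle (Ω := SubMulAction.ofStabilizer G α) hΔcard y hy
  haveI htrans : MulAction.IsPretransitive (MulAction.stabilizer G α)
      (SubMulAction.ofStabilizer G α) := by
    constructor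
    intro δ δ'
    obtain ⟨l, -, hl⟩ := hδ₀ δ
    obtain ⟨l', -, hl'⟩ := hδ₀ δ'
    exact ⟨l' * l⁻¹, by rw [← hl, ← hl', mul_smul, inv_smul_smul]⟩
  have h4 : MulAction.IsMultiplyPretransitive (MulAction.stabilizer G α)
      (SubMulAction.ofStabilizer G α) 4 := h4_four_trans F hΔcard
  exact (SubMulAction.ofStabilizer.isMultiplyPretransitive (a := α)).mpr h4

end PartB

/-- **PART B12** -/
theorem sharp5_of_index_twelve {G : Type u} [Group G] [Finite G] (hG : Cfsg.IsM12 G)
    (H : Subgroup G) (hH : H.index = 12) :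
    FaithfulSMul G (G ⧸ H) ∧ MulAction.IsMultiplyPretransitive G (G ⧸ H) 5 := by
  have hfaith : FaithfulSMul G (G ⧸ H) := by
    haveI := hG.1
    have hcore : H.normalCore = ⊥ := by
      rcases (Subgroup.normalCore_normal H).eq_bot_or_eq_top with h | h
      · exact h
      · exfalso
        have : H = ⊤ := top_le_iff.mp (h ▸ Subgroup.normalCore_le H)
        rw [this, Subgroup.index_top] at hH
        omega
    constructor
    intro g₁ g₂ h
    have hker : g₂⁻¹ * g₁ ∈ (MulAction.toPermHom G (G ⧸ H)).ker := by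
      rw [MonoidHom.mem_ker]
      ext q
      rw [MulAction.toPermHom_apply, MulAction.toPerm_apply, Equiv.Perm.coe_one, id_eq, mul_smul,
        h q, inv_smul_smul]
    rw [← Subgroup.normalCore_eq_ker, hcore, Subgroup.mem_bot, inv_mul_eq_one] at hker
    exact hker.symm
  haveI := hfaith
  have hcard : Nat.card (G ⧸ H) = 12 := hH
  exact ⟨hfaith, h4_five_trans hG hcard⟩

end Cfsg.Agent.M12U
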