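import Mathlib
import Cfsg.Prelude.Def_Sporadic_a
import Cfsg.Prelude.Def_Sporadic
import Cfsg.Agent.S0384
import Cfsg.Agent.S0382
import Cfsg.Agent.M12U.H4_IsoAut

/-!
# S0421 / M12U, PART E12 (helper8): the dodecad stabiliser `Stab_{M24}(d)` acts faithfully and
5-transitively on the twelve points of `d`, has order 95040, hence is the automorphism group of a
Steiner system `S(5,6,12)` on these points.  (Adaptation of helper9's `M11U/H9_Concrete`.)
-/

set_option autoImplicit false
set_option linter.style.haveILetI false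

namespace Cfsg.Agent.M12U

open Cfsg
open scoped Pointwise

/-- the twelve points of the dodecad `d` -/
abbrev h8_Pts (d : Finset GolayPt) : Type := {a : GolayPt // a ∈ d}

/-- the concrete group -/
abbrev h8_Hc (d : Finset GolayPt) : Subgroup M24 := MulAction.stabilizer M24 d

theorem h8_mem_d {d : Finset GolayPt} (g : h8_Hc d) {a : GolayPt} (ha : a ∈ d) :
    ((g : M24) : Equiv.Perm GolayPt) a ∈ d := by
  have h1 : (g : M24) • d = d := MulAction.mem_stabilizer_iff.mp g.2
  have h2 : (g : M24) • a ∈ (g : M24) • d := Finset.smul_mem_smul_finset ha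
  rw [h1] at h2
  exact h2

/-- the action of the concrete group on the twelve points -/
def h8_act (d : Finset GolayPt) : MulAction (h8_Hc d) (h8_Pts d) where
  smul g a := ⟨((g : M24) : Equiv.Perm GolayPt) a.1, h8_mem_d g a.2⟩
  one_smul a := Subtype.ext (by
    show (((1 : h8_Hc d) : M24) : Equiv.Perm GolayPt) a.1 = a.1
    simp)
  mul_smul g h a := Subtype.ext (by
    show (((g * h : h8_Hc d) : M24) : Equiv.Perm GolayPt) a.1 =
      ((g : M24) : Equiv.Perm GolayPt) (((h : M24) : Equiv.Perm GolayPt) a.1)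
    simp)

theorem h8_act_val (d : Finset GolayPt) (g : h8_Hc d) (a : h8_Pts d) :
    (letI := h8_act d; (g • a : h8_Pts d)).1 = ((g : M24) : Equiv.Perm GolayPt) a.1 := rfl

theorem h8_card_pts (d : Finset GolayPt) (hd : d ∈ dodecads) :
    Fintype.card (h8_Pts d) = 12 := by
  have hc : d.card = 12 := hd.2
  rw [Fintype.card_coe, hc]

theorem h8_exists_emb (d : Finset GolayPt) (hd : d ∈ dodecads) :
    ∃ x : Fin 5 ↪ GolayPt, ∀ i, x i ∈ d := by
  have hc : d.card = 12 := hd.2
  have : Fintype.card (Fin 5) ≤ Fintype.card d := by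
    rw [Fintype.card_coe, hc]; simp
  obtain ⟨f⟩ := Function.Embedding.nonempty_of_card_le this
  exact ⟨f.trans (Function.Embedding.subtype _), fun i => (f i).2⟩

theorem h8_faithful (d : Finset GolayPt) (hd : d ∈ dodecads) :
    @FaithfulSMul (h8_Hc d) (h8_Pts d) (h8_act d).toSMul := by
  letI := h8_act d
  refine ⟨?_⟩
  intro g h hgh
  -- g and h agree on all of d
  have hag : ∀ a ∈ d, ((g : M24) : Equiv.Perm GolayPt) a = ((h : M24) : Equiv.Perm GolayPt) a := by
    intro a ha
    have := congrArg Subtype.val (hgh ⟨a, ha⟩)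
    exact this
  obtain ⟨x, hx⟩ := h8_exists_emb d hd
  let y : Fin 5 ↪ GolayPt := x.trans (((g : M24) : Equiv.Perm GolayPt).toEmbedding)
  have hy : ∀ i, y i ∈ d := fun i => h8_mem_d g (hx i)
  obtain ⟨g₀, -, huniq⟩ := Cfsg.Agent.S0384.result d hd x y hx hy
  have h1 := huniq g (fun i => rfl)
  have h2 := huniq h (fun i => (hag (x i) (hx i)).symm)
  exact h1.trans h2.symm

theorem h8_pretrans (d : Finset GolayPt) (hd : d ∈ dodecads) :
    @MulAction.IsMultiplyPretransitive (h8_Hc d) (h8_Pts d) _ (h8_act d) 5 := by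
  letI := h8_act d
  rw [MulAction.isMultiplyPretransitive_iff]
  intro x y
  let x' : Fin 5 ↪ GolayPt := x.trans (Function.Embedding.subtype _)
  let y' : Fin 5 ↪ GolayPt := y.trans (Function.Embedding.subtype _)
  obtain ⟨g₀, hg₀, -⟩ := Cfsg.Agent.S0384.result d hd x' y' (fun i => (x i).2) (fun i => (y i).2)
  refine ⟨g₀, ?_⟩
  apply Function.Embedding.ext
  intro i
  rw [Function.Embedding.smul_apply]
  apply Subtype.ext
  exact hg₀ i

/-- **PART E12.** -/
theorem concrete_iso_aut12 (d : Finset Cfsg.GolayPt) (hd : d ∈ Cfsg.dodecads) :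
    ∃ (Ω : Type) (_ : Fintype Ω) (_ : DecidableEq Ω) (B : Set (Finset Ω)), Fintype.card Ω = 12 ∧
      Cfsg.IsSteinerSystem 5 6 B ∧
      Nonempty (↥(MulAction.stabilizer Cfsg.M24 d) ≃* Cfsg.setSystemAut B) := by
  letI := h8_act d
  haveI := h8_faithful d hd
  haveI := h8_pretrans d hd
  have hcard : Nat.card (h8_Hc d) = 95040 := Cfsg.Agent.S0382.result d hd
  obtain ⟨B, hB, hiso⟩ := iso_aut_of_sharp5 (G := h8_Hc d) hcard (Ω := h8_Pts d)
    (h8_card_pts d hd)
  exact ⟨h8_Pts d, inferInstance, inferInstance, B, h8_card_pts d hd, hB, hiso⟩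

end Cfsg.Agent.M12U
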