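import Mathlib
import Cfsg.Prelude.Def_Sporadic_a
import Cfsg.Prelude.Def_Sporadic
import Cfsg.Agent.S0408
import Cfsg.Agent.M11U.H9_AutCongr
import Cfsg.Agent.M12U.H4_PartB
import Cfsg.Agent.M12U.H4_IsoAut
import Cfsg.Agent.M12U.H8_Concrete12

/-!
# S0421 / M12U: the endgame (helper8)

A simple group of order `95040` with a subgroup of index `12` is isomorphic to the stabiliser in
`M24` of any dodecad.  Assembly of PART B12 (`sharp5_of_index_twelve`, helper4), C12 + D12
(`iso_aut_of_sharp5`, helper4), E12 (`concrete_iso_aut12`), the uniqueness of `S(5,6,12)`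
(landed S0408) and `aut_congr_of_iso` (helper9).
-/

set_option autoImplicit false
set_option linter.style.haveILetI false

namespace Cfsg.Agent.M12U

open Cfsg
open scoped Pointwise

universe u

/-- **S0421 from a subgroup of index 12.** -/
theorem s0421_of_index_twelve {G : Type u} [Group G] [Finite G] (hG : Cfsg.IsM12 G)
    (H : Subgroup G) (hH : H.index = 12) (d : Finset Cfsg.GolayPt) (hd : d ∈ Cfsg.dodecads) :
    Nonempty (G ≃* ↥(MulAction.stabilizer Cfsg.M24 d)) := by
  classical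
  obtain ⟨hfaith, htrans⟩ := sharp5_of_index_twelve hG H hH
  haveI : Fintype (G ⧸ H) := Fintype.ofFinite _
  have hΩ : Fintype.card (G ⧸ H) = 12 := by
    rw [← Nat.card_eq_fintype_card, ← Subgroup.index_eq_card]
    exact hH
  obtain ⟨B, hB, ⟨e₁⟩⟩ := iso_aut_of_sharp5 (G := G) hG.2 (Ω := G ⧸ H) hΩ
  obtain ⟨Ω', instF, instD, B', hΩ', hB', ⟨e₂⟩⟩ := concrete_iso_aut12 d hd
  have hiso : Cfsg.SetSystemIso B B' := Cfsg.Agent.S0408.result hΩ hΩ' hB hB'
  obtain ⟨e₃⟩ := Cfsg.Agent.M11U.aut_congr_of_iso hiso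
  exact ⟨(e₁.trans e₃).trans e₂.symm⟩

end Cfsg.Agent.M12U
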